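import Cfsg.Agent.Lib.Helper9.TCData.M11B0.Main

set_option autoImplicit false
set_option maxRecDepth 1000000

namespace Cfsg.Agent.Helper9.TCData.M11B0
open Cfsg.Agent.Helper9.TC2

theorem tr0x_0 : allRange 0 11 (fun u => chkTree tab (lidx 0) (lpar 0) (lgi 0) 0 [0, 2, 3, 138, 139, 129, 130] u) = true := by decide +kernel

theorem tr1x_0 : allRange 0 11 (fun u => chkTree tab (lidx 1) (lpar 1) (lgi 1) 1 [2, 3, 140, 138, 139, 129, 130] u) = true := by decide +kernel

theorem tr2x_0 : allRange 0 11 (fun u => chkTree tab (lidx 2) (lpar 2) (lgi 2) 2 [140, 141, 138, 139, 129, 130] u) = true := by decide +kernel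

theorem tr3x_0 : allRange 0 11 (fun u => chkTree tab (lidx 3) (lpar 3) (lgi 3) 3 [140, 141, 138, 139] u) = true := by decide +kernel


end Cfsg.Agent.Helper9.TCData.M11B0
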