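import Cfsg.Agent.Lib.Helper9.TC2Pack

set_option autoImplicit false
set_option maxRecDepth 100000

namespace Cfsg.Agent.Helper9.TCData.M11B0
open Cfsg.Agent.Helper9.TC2
noncomputable def entT_0 : BT := (BT.node 4 (BT.node 2 (BT.leaf 0x33d00000ae678a6e5a75d53654d24d8b414031) (BT.leaf 0xd3800aa668b2e8a79d43694c2598e410061)) (BT.node 6 (BT.leaf 0x35bc2800c7adc8e2048657644db7284f51c810) (BT.leaf 0x32b002eadbafd89e4971186409f84948124c20)))

noncomputable def cerT_0 : BT := (BT.node 4 (BT.node 2 (BT.leaf 0x640000008040000088041201000000200) (BT.leaf 0x400010080402010080402010080402)) (BT.node 6 (BT.leaf 0xa40400000004202006304200010000004) (BT.leaf 0x80002010000402010080400010080002)))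

noncomputable def lkT_0 : BT := (BT.leaf 0x38bde7a4003980000000000000000000000000)

noncomputable def lcT_0 : BT := (BT.leaf 0x675418a29000a75000000000000000000000000000000)

noncomputable def pnT_0 : BT := (BT.leaf 0x2beaa2489f4903882c61000)

noncomputable def clsT_0 : BT := (BT.leaf 0xa94a89876543210)

noncomputable def repT_0 : BT := (BT.leaf 0xb9876543210)

noncomputable def tauT_0 : BT := (BT.node 142 (BT.node 70 (BT.node 34 (BT.node 16 (BT.node 8 (BT.node 4 (BT.node 2 (BT.leaf 0x9a873526401) (BT.leaf 0x9a873526401)) (BT.node 6 (BT.leaf 0xa8496371520) (BT.leaf 0xa7946285130))) (BT.node 12 (BT.node 10 (BT.leaf 0xa9876543210) (BT.leaf 0x9a873526401)) (BT.node 14 (BT.leaf 0x8a491356702) (BT.leaf 0x892a0653714)))) (BT.node 24 (BT.node 20 (BT.node 18 (BT.leaf 0x7a945216803) (BT.leaf 0xa8956710243)) (BT.node 22 (BT.leaf 0x4a782136905) (BT.leaf 0x1a592406837))) (BT.node 28 (BT.node 26 (BT.leaf 0xa9876543210) (BT.leaf 0x1a592406837))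 (BT.node 30 (BT.leaf 0xa7946285130) (BT.node 32 (BT.leaf 0x19a02854367) (BT.leaf 0x9a873526401)))))) (BT.node 52 (BT.node 42 (BT.node 38 (BT.node 36 (BT.leaf 0x91a04832576) (BT.leaf 0x982a3670541)) (BT.node 40 (BT.leaf 0x1a592406837) (BT.leaf 0x4a782136905))) (BT.node 46 (BT.node 44 (BT.leaf 0x1958362a74) (BT.leaf 0xa7946285130)) (BT.node 48 (BT.leaf 0x5168a93724) (BT.node 50 (BT.leaf 0x34879062a51) (BT.leaf 0x391654870a2))))) (BT.node 60 (BT.node 56 (BT.node 54 (BT.leaf 0x6378a529410) (BT.leaf 0x576134098a2)) (BT.node 58 (BT.leaf 0xa9876543210) (BT.leaf 0x576134098a2))) (BT.node 64 (BT.node 62 (BT.leaf 0x892a0653714) (BT.leaf 0x678523491a0)) (BT.node 66 (BT.leaf 0x34879062a51) (BT.node 68 (BT.leaf 0x9485702163a) (BT.leaf 0x386492750a1))))))) (BT.node 106 (BT.node 88 (BT.node 78 (BT.node 74 (BT.node 72 (BT.leaf 0x18724650a93) (BT.leaf 0x58947061a23)) (BT.node 76 (BT.leaf 0x678523491a0) (BT.leaf 0x927830a4651))) (BT.node 82 (BT.node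 80 (BT.leaf 0x7158906423a) (BT.leaf 0x7269130485a)) (BT.node 84 (BT.leaf 0x829134a6507) (BT.node 86 (BT.leaf 0x28964a70135) (BT.leaf 0x5923a817064))))) (BT.node 96 (BT.node 92 (BT.node 90 (BT.leaf 0x473a2680195) (BT.leaf 0x13750a24698)) (BT.node 94 (BT.leaf 0x36209a15784) (BT.leaf 0x4068319a572))) (BT.node 100 (BT.node 98 (BT.leaf 0x438720a9615) (BT.leaf 0x9a685240371)) (BT.node 102 (BT.leaf 0x82960a14753) (BT.node 104 (BT.leaf 0x63a51974820) (BT.leaf 0x276943810a5)))))) (BT.node 124 (BT.node 114 (BT.node 110 (BT.node 108 (BT.leaf 0x851374a2069) (BT.leaf 0x6341a905782)) (BT.node 112 (BT.leaf 0x72a68594310) (BT.leaf 0x743a0612859))) (BT.node 118 (BT.node 116 (BT.leaf 0x69470813a52) (BT.leaf 0x7269130485a)) (BT.node 120 (BT.leaf 0x7a095321486) (BT.node 122 (BT.leaf 0x63205a79148) (BT.leaf 0x5146379a820))))) (BT.node 132 (BT.node 128 (BT.node 126 (BT.leaf 0x3641597a028) (BT.leaf 0xa3927165084)) (BT.node 130 (BT.leaf 0x473a2680195)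 (BT.leaf 0x625a0794831))) (BT.node 136 (BT.node 134 (BT.leaf 0x5974638a021) (BT.leaf 0x72a90456183)) (BT.node 138 (BT.leaf 0x597a2843106) (BT.node 140 (BT.leaf 0x42971a56830) (BT.leaf 0xa1290364785)))))))) (BT.node 212 (BT.node 176 (BT.node 158 (BT.node 150 (BT.node 146 (BT.node 144 (BT.leaf 0x4382061579a) (BT.leaf 0x6413895702a)) (BT.node 148 (BT.leaf 0x1958362a74) (BT.leaf 0x49175028a36))) (BT.node 154 (BT.node 152 (BT.leaf 0x617534a9028) (BT.leaf 0x9701845623a)) (BT.node 156 (BT.leaf 0x15827a43096) (BT.leaf 0x816905274a3)))) (BT.node 166 (BT.node 162 (BT.node 160 (BT.leaf 0x89756a02413) (BT.leaf 0x8364520971a)) (BT.node 164 (BT.leaf 0x7260a439518) (BT.leaf 0x2a76159348))) (BT.node 170 (BT.node 168 (BT.leaf 0x8570a142936) (BT.leaf 0x29a56031847)) (BT.node 172 (BT.leaf 0x9581a623740) (BT.node 174 (BT.leaf 0x97258146a3) (BT.leaf 0x5176842a93)))))) (BT.node 194 (BT.node 184 (BT.node 180 (BT.node 178 (BT.leaf 0x95361a2784) (BT.leaf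 0x3582690a714)) (BT.node 182 (BT.leaf 0x90532176a48) (BT.leaf 0x549a7126308))) (BT.node 188 (BT.node 186 (BT.leaf 0x56271a80349) (BT.leaf 0x173a0598624)) (BT.node 190 (BT.leaf 0x378605a2419) (BT.node 192 (BT.leaf 0x8a304516927) (BT.leaf 0xa2983650174))))) (BT.node 202 (BT.node 198 (BT.node 196 (BT.leaf 0x89a36457201) (BT.leaf 0x6a475309821)) (BT.node 200 (BT.leaf 0x68534719a20) (BT.leaf 0x504613892a7))) (BT.node 206 (BT.node 204 (BT.leaf 0x70142958a63) (BT.leaf 0x68a49531270)) (BT.node 208 (BT.leaf 0x21750986a43) (BT.node 210 (BT.leaf 0x7392a61584) (BT.leaf 0x3561a204978))))))) (BT.node 248 (BT.node 230 (BT.node 220 (BT.node 216 (BT.node 214 (BT.leaf 0x249831a7065) (BT.leaf 0x905647318a2)) (BT.node 218 (BT.leaf 0x193a6250478) (BT.leaf 0xa0194872365))) (BT.node 224 (BT.node 222 (BT.leaf 0x8425a73961) (BT.leaf 0x51738a92046)) (BT.node 226 (BT.leaf 0x502836147a9) (BT.node 228 (BT.leaf 0xa6072849351) (BT.leaf 0x1475268a309))))) (BT.node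 238 (BT.node 234 (BT.node 232 (BT.leaf 0x5478320a916) (BT.leaf 0x9764581a032)) (BT.node 236 (BT.leaf 0x483027156a9) (BT.leaf 0x9840753a621))) (BT.node 242 (BT.node 240 (BT.leaf 0x8319075426a) (BT.leaf 0x9684a751203)) (BT.node 244 (BT.leaf 0x301589762a4) (BT.node 246 (BT.leaf 0x2856703941a) (BT.leaf 0x219854607a3)))))) (BT.node 266 (BT.node 256 (BT.node 252 (BT.node 250 (BT.leaf 0x9783615a420) (BT.leaf 0x18905a42673)) (BT.node 254 (BT.leaf 0x428169753a0) (BT.leaf 0xa5340269871))) (BT.node 260 (BT.node 258 (BT.leaf 0x1a243658907) (BT.leaf 0x926753a8410)) (BT.node 262 (BT.leaf 0x4a378625910) (BT.node 264 (BT.leaf 0x158463a2970) (BT.leaf 0x836745a1209))))) (BT.node 274 (BT.node 270 (BT.node 268 (BT.leaf 0x2834561097a) (BT.leaf 0x824356a0791)) (BT.node 272 (BT.leaf 0x3910652a487) (BT.leaf 0x5926140a783))) (BT.node 278 (BT.node 276 (BT.leaf 0x5946827301a) (BT.leaf 0x34a85967210)) (BT.node 280 (BT.leaf 0x8573469a210) (BT.node 282 (BT.leaf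 0x539487a6210) (BT.leaf 0x48653a79210)))))))))

noncomputable def labT_0 : BT := (BT.leaf 0x7fe)

noncomputable def depT_0 : BT := (BT.leaf 0x1656942c0)

noncomputable def ojT_0 : BT := (BT.leaf 0x6c0)

noncomputable def rootT_0 : BT := (BT.leaf 0x2)

noncomputable def lidxT_0 : BT := (BT.node 4 (BT.node 2 (BT.leaf 0xa7b98654321) (BT.leaf 0x96a87453210)) (BT.node 6 (BT.leaf 0x43856927100) (BT.leaf 0x53642781000)))

noncomputable def lparT_0 : BT := (BT.node 4 (BT.node 2 (BT.leaf 0x32333221100) (BT.leaf 0x32333221100)) (BT.node 6 (BT.leaf 0x42944929000) (BT.leaf 0x33633660000)))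

noncomputable def lgiT_0 : BT := (BT.node 4 (BT.node 2 (BT.leaf 0x135608440) (BT.leaf 0x135685200)) (BT.node 6 (BT.leaf 0x2929c000) (BT.leaf 0xc8413000)))


end Cfsg.Agent.Helper9.TCData.M11B0
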